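import Groth.Prelude.Def_Curv2
import Groth.Prelude.Def_Found
import Groth.Agent.HensCouple7.ProperPair
import Groth.Agent.VarGeom.Normal
import Groth.Agent.RegLoc6.Normal
import Groth.Agent.AlgSpLib.FlatAt
import Groth.Agent.S0414
import Groth.Agent.S0565

/-! Consequences of a regular alteration. -/

universe u

set_option autoImplicit false
set_option linter.style.haveILetI false

open CategoryTheory CategoryTheory.Limits AlgebraicGeometry IsLocalRing

namespace Groth.Agent.AltRegular

variable (A : Type u) [CommRing A] [IsDomain A] [IsNoetherianRing A] {X : Scheme.{u}}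
  (f : X ⟶ Spec (CommRingCat.of A))

theorem isN1 [IsProper f] [IsIntegral X] [IsDominant f]
    (hreg : ∀ x : X, IsRegularLocalRing (X.presheaf.stalk x)) : CAlg.IsN1 A := by
  haveI : Nonempty (⊤ : X.Opens) := ⟨⟨genericPoint X, trivial⟩⟩
  have hn : ∀ x : X, IsIntegrallyClosed (X.presheaf.stalk x) := fun x => by
    haveI := hreg x
    exact RegLoc6.isIntegrallyClosed_of_isRegularLocalRing _
  let t := HensCouple7.toΓ f
  let germ := (X.germToFunctionField ⊤).hom
  let ψ : A →+* X.functionField := germ.comp t
  have hgen : f (genericPoint X) = (⟨⊥, Ideal.isPrime_bot⟩ : PrimeSpectrum A) := by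
    have h : IsGenericPoint (f (genericPoint X)) (Set.univ : Set (Spec (CommRingCat.of A))) := by
      have h1 := (genericPoint_spec X).image f.continuous
      rw [Set.image_univ, f.denseRange.closure_range] at h1
      exact h1
    have h2 : (⟨⊥, Ideal.isPrime_bot⟩ : PrimeSpectrum A) ∈ closure {f (genericPoint X)} := by
      rw [h.def]; trivial
    have h3 : (f (genericPoint X) : PrimeSpectrum A).asIdeal ≤ (⟨⊥, Ideal.isPrime_bot⟩ : PrimeSpectrum A).asIdeal :=
      (PrimeSpectrum.le_iff_mem_closure _ _).mpr h2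
    exact PrimeSpectrum.ext (le_bot_iff.mp h3)
  have hψ : ∀ a : A, a ≠ 0 → IsUnit (ψ a) := by
    intro a ha
    have h1 : genericPoint X ∈ X.basicOpen (t a) := by
      rw [HensCouple7.mem_basicOpen_toΓ, hgen]
      exact fun h => ha (Ideal.mem_bot.mp h)
    exact (Scheme.mem_basicOpen X (t a) _ trivial).mp h1
  let Φ : FractionRing A →+* X.functionField :=
    IsLocalization.lift (M := nonZeroDivisors A) (g := ψ) fun a => hψ a.1 (nonZeroDivisors.ne_zero a.2)
  have hΦ : ∀ a, Φ (algebraMap A (FractionRing A) a) = ψ a := fun a => IsLocalization.lift_eq _ a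
  letI : Algebra A Γ(X, ⊤) := t.toAlgebra
  letI : Algebra A X.functionField := ψ.toAlgebra
  let G : Γ(X, ⊤) →ₐ[A] X.functionField := { germ with commutes' := fun _ => rfl }
  let F : integralClosure A (FractionRing A) →ₐ[A] X.functionField :=
    { Φ.comp (integralClosure A (FractionRing A)).val.toRingHom with commutes' := fun a => hΦ a }
  haveI : Module.Finite A Γ(X, ⊤) := HensCouple7.finite_toΓ f
  haveI : IsNoetherian A (LinearMap.range G.toLinearMap) := isNoetherian_of_surjective G.toLinearMap.rangeRestrict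
    (LinearMap.range_rangeRestrict _)
  have hmem : ∀ b, F b ∈ LinearMap.range G.toLinearMap := by
    intro b
    obtain ⟨p, hp, hp0⟩ := b.2
    have hi : germ.IsIntegralElem (F b) := by
      refine ⟨p.map t, hp.map _, ?_⟩
      rw [Polynomial.eval₂_map]
      have := congrArg Φ hp0
      rw [map_zero, Polynomial.hom_eval₂, show Φ.comp (algebraMap A (FractionRing A)) = ψ from RingHom.ext hΦ] at this
      exact this
    obtain ⟨s, hs⟩ := VarGeom.exists_global_of_isIntegral hn (F b) hi
    exact ⟨s, hs⟩
  exact Module.Finite.of_injective (F.toLinearMap.codRestrict _ hmem)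
    (fun b b' h => Subtype.ext (Φ.injective (congrArg Subtype.val h)))

theorem exists_regular_open [IsProper f] [IsDominant f]
    (hreg : ∀ x : X, IsRegularLocalRing (X.presheaf.stalk x)) :
    ∃ U : (Spec (CommRingCat.of A)).Opens, (U : Set (Spec (CommRingCat.of A))).Nonempty ∧
      ∀ y ∈ U, IsRegularLocalRing ((Spec (CommRingCat.of A)).presheaf.stalk y) := by
  haveI : IsLocallyNoetherian X := LocallyOfFiniteType.isLocallyNoetherian f
  obtain ⟨U, hU, hfl, -⟩ := Groth.Agent.S0414.result f
  refine ⟨U, hU.nonempty, fun y hy => ?_⟩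
  have hsurj : Set.range f = Set.univ := by
    rw [← f.isClosedMap.isClosed_range.closure_eq, f.denseRange.closure_range]
  obtain ⟨x, rfl⟩ : y ∈ Set.range f := by rw [hsurj]; trivial
  haveI : Flat ((f ⁻¹ᵁ U).ι ≫ f) := by
    rw [← morphismRestrict_ι]
    infer_instance
  have hflat : (f.stalkMap x).hom.Flat :=
    (AlgSpLib.flatAt_comp_left_iff (f ⁻¹ᵁ U).ι f ⟨x, hy⟩ (Flat.stalkMap _ _)).mp (Flat.stalkMap _ _)
  algebraize [(f.stalkMap x).hom]
  haveI : IsLocalHom (algebraMap ((Spec (CommRingCat.of A)).presheaf.stalk (f x)) (X.presheaf.stalk x)) :=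
    f.toLRSHom.prop x
  haveI := hreg x
  haveI : Module.Flat ((Spec (CommRingCat.of A)).presheaf.stalk (f x)) (X.presheaf.stalk x) := hflat
  exact Groth.Agent.S0565.result ((Spec (CommRingCat.of A)).presheaf.stalk (f x)) (X.presheaf.stalk x)

end Groth.Agent.AltRegular
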